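import Cfsg.Agent.Lib.FrobStructure.ZGroupPresentation
import Cfsg.Agent.Lib.Zass25.Solvable
import Cfsg.Agent.Lib.Zass25.Setup
import Cfsg.Agent.Lib.TwoRankInter.Main
import Cfsg.Agent.S3357

/-!
Solvable Frobenius complements: a normal Z-subgroup with quotient inside `Sym(4)`.
-/

set_option autoImplicit false
set_option linter.style.haveILetI false

namespace Cfsg.Agent.Lib.FrobStructure

open Subgroup

/-- Subgroups of order `p * q` of a Frobenius complement are cyclic. -/
theorem isCyclic_of_card_prime_mul_prime {L : Type} [Group L] [Finite L] {H : Subgroup L}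
    (hH : Cfsg.IsFrobeniusComplement H) {G : Type*} [Group G] [Finite G] (e : G ≃* H)
    (A : Subgroup G) {p q : ℕ} (hp : p.Prime) (hq : q.Prime) (hA : Nat.card A = p * q) :
    IsCyclic A := by
  obtain ⟨r, hr, V, hVc, φ, -, hV1, -, hfpf⟩ := Cfsg.Agent.S3357.exists_fpf_module hH e
  letI : CommGroup V := { (inferInstance : Group V) with mul_comm := fun a b => mul_comm' a b }
  letI : MulDistribMulAction A V := MulDistribMulAction.compHom V (φ.comp A.subtype)
  haveI : Nontrivial V := (Subgroup.nontrivial_iff_ne_bot V).mpr hV1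
  have hf : Frobenius.FPF.IsFPF A V := fun a ha v hv =>
    hfpf a (fun h => ha (Subtype.ext h)) v hv
  exact Frobenius.FPF.isCyclic_of_card_prime_mul_prime hf hp hq hA

theorem commute_of_normalizing {L : Type} [Group L] [Finite L] {H : Subgroup L}
    (hH : Cfsg.IsFrobeniusComplement H) {G : Type*} [Group G] [Finite G] (e : G ≃* H) {t z : G}
    (ht : (orderOf t).Prime) (hz : (orderOf z).Prime) (hne : orderOf t ≠ orderOf z)
    (hn : t⁻¹ * z * t ∈ zpowers z) : Commute t z := by
  have hN : zpowers t ≤ normalizer (zpowers z : Set G) := by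
    rw [zpowers_le]
    refine inv_inv t ▸ inv_mem (show t⁻¹ ∈ normalizer (zpowers z : Set G) from ?_)
    have hmap : ∀ g ∈ zpowers z, t⁻¹ * g * t⁻¹⁻¹ ∈ zpowers z := by
      rintro _ ⟨i, rfl⟩
      rw [← conj_zpow, inv_inv]
      exact zpow_mem hn i
    have heq : (zpowers z).map (MulAut.conj t⁻¹).toMonoidHom = zpowers z := by
      refine eq_of_le_of_card_ge ?_ ?_
      · rintro _ ⟨g, hg, rfl⟩
        exact hmap g hg
      · exact (Nat.card_congr ((zpowers z).equivMapOfInjective _
          (MulAut.conj t⁻¹).injective).toEquiv).le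
    rw [mem_normalizer_iff]
    intro g
    refine ⟨hmap g, fun hg => ?_⟩
    have hg2 : t⁻¹ * g * t⁻¹⁻¹ ∈ (zpowers z).map (MulAut.conj t⁻¹).toMonoidHom := by
      rw [heq]; exact hg
    obtain ⟨g', hg', he⟩ := hg2
    have : g' = g := (MulAut.conj t⁻¹).injective he
    exact this ▸ hg'
  have hcard : Nat.card ↥(zpowers z ⊔ zpowers t) = orderOf z * orderOf t := by
    rw [TwoRankInter.card_sup_of_le_normalizer hN (by
      rw [Nat.card_zpowers, Nat.card_zpowers]
      exact (Nat.coprime_primes ht hz).mpr hne), Nat.card_zpowers, Nat.card_zpowers]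
  haveI := isCyclic_of_card_prime_mul_prime hH e _ hz ht hcard
  have h := (IsCyclic.commGroup (α := ↥(zpowers z ⊔ zpowers t))).mul_comm
    ⟨t, mem_sup_right (mem_zpowers t)⟩ ⟨z, mem_sup_left (mem_zpowers z)⟩
  exact congrArg Subtype.val h

variable {G : Type*} [Group G] [Finite G]

theorem injOn_mk_of_isPGroup {A : Subgroup G} (hA : IsPGroup 2 A) :
    Function.Injective ((QuotientGroup.mk' (Cfsg.oddCore G)).comp A.subtype) := by
  rw [injective_iff_map_eq_one]
  intro x hx
  have h1 : (x : G) ∈ A ⊓ Cfsg.oddCore G := ⟨x.2, (QuotientGroup.eq_one_iff _).mp hx⟩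
  rw [PSolvable.inf_eq_bot_of_isPGroup_of_coprime hA PSolvable.pPrimeCore_coprime, mem_bot] at h1
  exact Subtype.ext h1

theorem isZGroup_comap (h : Zass25.HasFpfRep G) (C : Subgroup (G ⧸ Cfsg.oddCore G))
    (hC : IsCyclic C) : IsZGroup (C.comap (QuotientGroup.mk' (Cfsg.oddCore G))) := by
  set G₀ := C.comap (QuotientGroup.mk' (Cfsg.oddCore G))
  refine Zass25.isZGroup_of_two (h.subgroup G₀) fun P => ?_
  set A := (P : Subgroup G₀).map G₀.subtype
  have hinj := injOn_mk_of_isPGroup (P.2.map G₀.subtype : IsPGroup 2 A)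
  let f : A →* C := ((QuotientGroup.mk' (Cfsg.oddCore G)).comp A.subtype).codRestrict C fun a => by
    obtain ⟨b, -, hb⟩ := a.2
    show QuotientGroup.mk' (Cfsg.oddCore G) (a : G) ∈ C
    rw [← hb]
    exact b.2
  have hA : IsCyclic A := isCyclic_of_injective f fun a b hab => hinj (congrArg Subtype.val hab)
  exact ((P : Subgroup G₀).equivMapOfInjective G₀.subtype G₀.subtype_injective).isCyclic.mpr hA

theorem exists_hom_perm_four_of_index_two (N : Subgroup G) [N.Normal] (hN : N.index = 2) :
    ∃ f : G →* Equiv.Perm (Fin 4), f.ker = N := by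
  haveI : Fact (Nat.Prime 2) := ⟨Nat.prime_two⟩
  have h1 : Nat.card (G ⧸ N) = 2 := by rw [← index_eq_card]; exact hN
  have h2 : Nat.card (zpowers (Equiv.swap (0 : Fin 4) 1)) = 2 := by
    rw [Nat.card_zpowers]
    exact orderOf_eq_prime (by decide) (by decide)
  let e := mulEquivOfPrimeCardEq h1 h2
  refine ⟨(zpowers (Equiv.swap (0 : Fin 4) 1)).subtype.comp
    (e.toMonoidHom.comp (QuotientGroup.mk' N)), ?_⟩
  ext g
  simp

theorem exists_normal_zGroup (hs : Group.IsSolvable G) (h : Zass25.HasFpfRep G) :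
    ∃ G₀ : Subgroup G, G₀.Normal ∧ (∃ f : G →* Equiv.Perm (Fin 4), f.ker = G₀) ∧ IsZGroup G₀ := by
  haveI := hs
  haveI : Fact (Nat.Prime 2) := ⟨Nat.prime_two⟩
  set N := Cfsg.oddCore G
  haveI hNn : N.Normal := by
    haveI : N.Characteristic := PSolvable.pPrimeCore_characteristic
    infer_instance
  set π := QuotientGroup.mk' N with hπdef
  have hπ : Function.Surjective π := QuotientGroup.mk'_surjective N
  obtain ⟨S⟩ : Nonempty (Sylow 2 G) := inferInstance
  set T := S.mapSurjective hπ
  have hST : Nonempty ((S : Subgroup G) ≃* (T : Subgroup (G ⧸ N))) := by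
    refine ⟨(MulEquiv.ofBijective (π.subgroupMap (S : Subgroup G)) ⟨?_,
      π.subgroupMap_surjective _⟩).trans (MulEquiv.subgroupCongr ?_)⟩
    · intro a b hab
      exact injOn_mk_of_isPGroup S.2 (congrArg Subtype.val hab)
    · exact (Sylow.coe_mapSurjective hπ S).symm
  obtain ⟨eST⟩ := hST
  set U := Cfsg.pCore 2 (G ⧸ N)
  haveI : U.Characteristic := PSolvable.pCore_characteristic
  haveI : U.Normal := inferInstance
  have hC : centralizer (U : Set (G ⧸ N)) ≤ U := PSolvable.centralizer_pCore_le_of_isPSolvable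
    (PSolvable.isPSolvable_of_isSolvable (p := 2) (G := G ⧸ N)) PSolvable.pPrimeCore_quotient_eq_bot
  have hUp : IsPGroup 2 U := PSolvable.pCore_isPGroup
  have hUT : U ≤ (T : Subgroup (G ⧸ N)) := PSolvable.pCore_le_sylow T
  have huniq : ∀ a b : U, orderOf a = 2 → orderOf b = 2 → a = b := by
    intro a b ha hb
    let g : U →* G := ((S : Subgroup G).subtype.comp eST.symm.toMonoidHom).comp (inclusion hUT)
    have hg : Function.Injective g :=
      ((S : Subgroup G).subtype_injective.comp eST.symm.injective).comp (inclusion_injective hUT)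
    have hne : ∀ c : U, orderOf c = 2 → g c ≠ 1 ∧ g c * g c = 1 := fun c hc => by
      have h2 : c * c = 1 := by rw [← pow_two, ← hc, pow_orderOf_eq_one]
      refine ⟨fun e1 => ?_, by rw [← map_mul, h2, map_one]⟩
      rw [hg (e1.trans (map_one g).symm), orderOf_one] at hc
      norm_num at hc
    exact hg (Zass25.involution_eq h (hne a ha).1 (hne a ha).2 (hne b hb).1 (hne b hb).2)
  have hcase : (∃ e : U ≃* QuaternionGroup 2, True) ∨ IsPGroup 2 (MulAut U) := by
    rcases TwoRankInter.isCyclic_or_quaternion_of_unique hUp huniq with hc | ⟨n, ⟨e⟩⟩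
    · exact Or.inr (TwoRankInter.isPGroup_mulAut_of_isCyclic hUp hc)
    · rcases n with _ | _ | n
      · refine Or.inr (TwoRankInter.isPGroup_mulAut_of_isCyclic hUp ?_)
        haveI := QuaternionGroup.quaternionGroup_one_isCyclic
        exact isCyclic_of_surjective e.symm e.symm.surjective
      · exact Or.inl ⟨e, trivial⟩
      · exact Or.inr ((Cfsg.Agent.S5112.isPGroup_mulAut_quaternion (n + 2) (by omega)).of_equiv
          (MulAut.congr e).symm)
  set C := centralizer (U : Set (G ⧸ N))
  rcases hcase with ⟨e, -⟩ | haut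
  · -- `U ≅ Q₈`
    obtain ⟨Φ⟩ := Cfsg.Agent.S3742.result
    set φ : G ⧸ N →* Equiv.Perm (Fin 4) :=
      (Φ.toMonoidHom.comp (MulAut.congr e).toMonoidHom).comp MulAut.conjNormal with hφ
    have hker : φ.ker = C := by
      ext g
      rw [MonoidHom.mem_ker, mem_centralizer_iff, hφ]
      simp only [MonoidHom.coe_comp, MulEquiv.coe_toMonoidHom, Function.comp_apply,
        EmbeddingLike.map_eq_one_iff]
      constructor
      · intro h u hu
        have h2 := congrArg (fun f : MulAut U => ((f ⟨u, hu⟩ : U) : G ⧸ N)) h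
        simp only [MulAut.conjNormal_apply, MulAut.one_apply] at h2
        exact (mul_inv_eq_iff_eq_mul.mp h2).symm
      · intro h
        refine MulEquiv.ext fun u => Subtype.ext ?_
        rw [MulAut.conjNormal_apply, MulAut.one_apply, ← h u u.2, mul_inv_cancel_right]
    have hcyc : IsCyclic C := by
      refine isCyclic_of_le (show C ≤ zpowers ((e.symm (.a 2) : U) : G ⧸ N) from fun c hc => ?_)
      have hcen : ∀ y, e ⟨c, hC hc⟩ * y = y * e ⟨c, hC hc⟩ := by
        intro y
        have h1 : (⟨c, hC hc⟩ : U) * e.symm y = e.symm y * ⟨c, hC hc⟩ :=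
          Subtype.ext (mem_centralizer_iff.mp hc _ (e.symm y).2).symm
        simpa using congrArg e h1
      rcases (TwoRankInter.quat8_center _).mp hcen with h1 | h1
      · have h2 := congrArg (fun x => ((e.symm x : U) : G ⧸ N)) h1
        simp only [MulEquiv.symm_apply_apply] at h2
        rw [h2, show (QuaternionGroup.a 0 : QuaternionGroup 2) = 1 from rfl, map_one]
        exact one_mem _
      · have h2 := congrArg (fun x => ((e.symm x : U) : G ⧸ N)) h1
        simp only [MulEquiv.symm_apply_apply] at h2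
        rw [h2]
        exact mem_zpowers _
    refine ⟨C.comap π, inferInstance, ⟨φ.comp π, ?_⟩, isZGroup_comap h C hcyc⟩
    rw [← MonoidHom.comap_ker, hker]
  · -- `G ⧸ N` is a 2-group
    have hQ : IsPGroup 2 (G ⧸ N) := by
      intro g
      obtain ⟨k, hk⟩ := haut (MulAut.conjNormal g)
      have hgC : g ^ 2 ^ k ∈ C := by
        rw [mem_centralizer_iff]
        intro u hu
        rw [← map_pow] at hk
        have h2 := congrArg (fun f : MulAut U => ((f ⟨u, hu⟩ : U) : G ⧸ N)) hk
        simp only [MulAut.conjNormal_apply, MulAut.one_apply] at h2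
        exact (mul_inv_eq_iff_eq_mul.mp h2).symm
      obtain ⟨l, hl⟩ := hUp ⟨_, hC hgC⟩
      refine ⟨k + l, ?_⟩
      rw [pow_add, pow_mul]
      exact congrArg Subtype.val hl
    have hT : (T : Subgroup (G ⧸ N)) = ⊤ := (T.3 (hQ.to_subgroup ⊤) le_top).symm
    let eQ : (S : Subgroup G) ≃* G ⧸ N :=
      eST.trans ((MulEquiv.subgroupCongr hT).trans topEquiv)
    rcases Zass25.sylow_cyclic_or_quaternion h S with hc | ⟨-, n, ⟨e⟩⟩
    · haveI : IsCyclic (G ⧸ N) := eQ.isCyclic.mp hc
      haveI hZ : IsZGroup ↥((⊤ : Subgroup (G ⧸ N)).comap π) := isZGroup_comap h ⊤ inferInstance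
      exact ⟨_, inferInstance, ⟨1, by rw [MonoidHom.ker_one, comap_top]⟩, hZ⟩
    · set a : G ⧸ N := (e.symm.trans eQ) (.a 1) with ha
      have hao : orderOf a = 2 * 2 ^ n := by
        rw [ha, MulEquiv.orderOf_eq, QuaternionGroup.orderOf_a_one]
      have hcardQ : Nat.card (G ⧸ N) = 4 * 2 ^ n := by
        rw [← Nat.card_congr (e.symm.trans eQ).toEquiv, Nat.card_eq_fintype_card,
          QuaternionGroup.card]
      have hidx : (zpowers a).index = 2 := by
        have h1 := card_mul_index (zpowers a)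
        rw [Nat.card_zpowers, hao, hcardQ] at h1
        have hpos : 0 < 2 * 2 ^ n := by positivity
        have : 2 * 2 ^ n * (zpowers a).index = 2 * 2 ^ n * 2 := by rw [h1]; ring
        exact Nat.eq_of_mul_eq_mul_left hpos this
      haveI : (zpowers a).Normal := normal_of_index_eq_two hidx
      have hidx' : ((zpowers a).comap π).index = 2 := by
        rw [index_comap_of_surjective _ hπ, hidx]
      exact ⟨_, inferInstance, exists_hom_perm_four_of_index_two _ hidx',
        isZGroup_comap h _ inferInstance⟩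

end Cfsg.Agent.Lib.FrobStructure
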