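import Mathlib

/-!
A presentation of a finite Z-group in which subgroups of order `p * q` are cyclic.
-/

set_option autoImplicit false
set_option linter.style.haveILetI false

namespace Cfsg.Agent.Lib.FrobStructure

open Subgroup
open scoped commutatorElement

theorem modEq_one_of_pow_modEq_one {s p m : ℕ} (hcop : p.Coprime m) (h1 : s ^ p ≡ 1 [MOD m])
    (h2 : ∀ q : ℕ, q.Prime → q ∣ m → s ≡ 1 [MOD q]) : s ≡ 1 [MOD m] := by
  set S := ∑ i ∈ Finset.range p, s ^ i with hS
  have hco : m.Coprime S := by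
    refine Nat.coprime_of_dvd fun q hq hqm hqS => ?_
    have hsum : ((S : ℕ) : ZMod q) = (p : ZMod q) := by
      have hs : (s : ZMod q) = 1 := by
        simpa using (ZMod.natCast_eq_natCast_iff s 1 q).mpr (h2 q hq hqm)
      simp [hS, hs]
    have hz : ((S : ℕ) : ZMod q) = 0 := (ZMod.natCast_eq_zero_iff S q).mpr hqS
    have hqp : q ∣ p := (ZMod.natCast_eq_zero_iff p q).mp (hsum.symm.trans hz)
    exact hq.ne_one (Nat.eq_one_of_dvd_coprimes hcop hqp hqm)
  rw [Nat.modEq_iff_dvd] at h1 ⊢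
  have hmul : (m : ℤ) ∣ ((1 : ℕ) - (s : ℤ)) * (S : ℤ) := by
    have hg := geom_sum_mul (s : ℤ) p
    have : ((1 : ℕ) - (s : ℤ)) * (S : ℤ) = ((1 : ℕ) : ℤ) - ((s ^ p : ℕ) : ℤ) := by
      rw [hS]
      push_cast
      linear_combination (-1 : ℤ) * hg
    rw [this]
    exact h1
  exact (Nat.isCoprime_iff_coprime.mpr hco).dvd_of_dvd_mul_right hmul

theorem dvd_div_prod_primeFactors {n d : ℕ} (hn : 0 < n) (hd : d ∣ n)
    (h : ∀ p ∈ n.primeFactors, d ∣ n / p) : d ∣ n / ∏ p ∈ n.primeFactors, p := by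
  obtain ⟨e, rfl⟩ := hd
  have hd0 : 0 < d := Nat.pos_of_mul_pos_right hn
  have hpe : ∀ p ∈ (d * e).primeFactors, p ∣ e := by
    intro p hp
    obtain ⟨c, hc⟩ := h p hp
    have h1 := Nat.div_mul_cancel (Nat.dvd_of_mem_primeFactors hp)
    rw [hc, mul_assoc] at h1
    exact ⟨c, (Nat.eq_of_mul_eq_mul_left hd0 h1).symm.trans (mul_comm c p)⟩
  have hprod : (∏ p ∈ (d * e).primeFactors, p) ∣ e :=
    Finset.prod_primes_dvd e (fun p hp => (Nat.prime_of_mem_primeFactors hp).prime) hpe
  rw [Nat.mul_div_assoc d hprod]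
  exact dvd_mul_right _ _

theorem inv_conj_pow {K : Type*} [Group K] (a b : K) (j : ℕ) :
    (a⁻¹ * b * a) ^ j = a⁻¹ * b ^ j * a := by
  induction j with
  | zero => simp
  | succ j ih => rw [pow_succ, pow_succ, ih]; group

theorem conj_pow_eq {K : Type*} [Group K] {x y : K} {r : ℕ} (h : x⁻¹ * y * x = y ^ r) :
    ∀ k : ℕ, (x ^ k)⁻¹ * y * x ^ k = y ^ (r ^ k) := by
  intro k
  induction k with
  | zero => simp
  | succ k ih =>
    have h' : ∀ j : ℕ, x⁻¹ * y ^ j * x = y ^ (r * j) := fun j => by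
      rw [pow_mul, ← h, inv_conj_pow]
    calc (x ^ (k + 1))⁻¹ * y * x ^ (k + 1) = x⁻¹ * ((x ^ k)⁻¹ * y * x ^ k) * x := by
          rw [pow_succ]; group
      _ = y ^ (r ^ (k + 1)) := by rw [ih, h', pow_succ, mul_comm (r ^ k)]

/-- The relators of the metacyclic presentation. -/
def zRels (n m r : ℕ) : Set (FreeGroup (Fin 2)) :=
  {FreeGroup.of (0 : Fin 2) ^ n, FreeGroup.of (1 : Fin 2) ^ m,
    (FreeGroup.of (0 : Fin 2))⁻¹ * FreeGroup.of 1 * FreeGroup.of 0 *
      (FreeGroup.of (1 : Fin 2) ^ r)⁻¹}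

theorem card_presented_le {n m : ℕ} (hn : 0 < n) (hm : 0 < m) (r : ℕ) :
    Finite (PresentedGroup (zRels n m r)) ∧
      Nat.card (PresentedGroup (zRels n m r)) ≤ n * m := by
  set P := PresentedGroup (zRels n m r)
  set X : P := PresentedGroup.of 0 with hX
  set Y : P := PresentedGroup.of 1 with hY
  have hone : ∀ w ∈ zRels n m r, PresentedGroup.mk (zRels n m r) w = 1 :=
    fun w hw => PresentedGroup.one_of_mem hw
  have hXn : X ^ n = 1 := by
    have h := hone (FreeGroup.of (0 : Fin 2) ^ n) (Or.inl rfl)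
    rwa [map_pow] at h
  have hYm : Y ^ m = 1 := by
    have h := hone (FreeGroup.of (1 : Fin 2) ^ m) (Or.inr (Or.inl rfl))
    rwa [map_pow] at h
  have hXY : X⁻¹ * Y * X = Y ^ r := by
    have h := hone _ (Or.inr (Or.inr rfl))
    rw [map_mul, map_mul, map_mul, map_inv, map_inv, map_pow] at h
    exact mul_inv_eq_one.mp h
  let f : ℕ × ℕ → P := fun q => X ^ q.1 * Y ^ q.2
  have hmulX : ∀ k i j, ∃ q, f q = X ^ i * Y ^ j * X ^ k := by
    intro k i j
    refine ⟨(i + k, r ^ k * j), ?_⟩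
    show X ^ (i + k) * Y ^ (r ^ k * j) = _
    rw [pow_mul, ← conj_pow_eq hXY k, pow_add]
    rw [inv_conj_pow]
    group
  have hclosed : ∀ (a : P), (a = X ∨ a = Y) → ∀ k i j, ∃ q, f q = X ^ i * Y ^ j * a ^ k := by
    rintro a (rfl | rfl) k i j
    · exact hmulX k i j
    · exact ⟨(i, j + k), by simp [f, pow_add, mul_assoc]⟩
  have hall : ∀ g : P, ∃ q, f q = g := by
    intro g
    have hg : g ∈ closure (Set.range (PresentedGroup.of (rels := zRels n m r))) := by
      rw [PresentedGroup.closure_range_of]; exact mem_top g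
    induction hg using closure_induction_right with
    | one => exact ⟨(0, 0), by simp [f]⟩
    | mul_right u _ a ha ih =>
      obtain ⟨⟨i, j⟩, rfl⟩ := ih
      obtain ⟨t, rfl⟩ := ha
      have ht : PresentedGroup.of t = X ∨ PresentedGroup.of (rels := zRels n m r) t = Y := by
        fin_cases t
        · exact Or.inl rfl
        · exact Or.inr rfl
      obtain ⟨q, hq⟩ := hclosed _ ht 1 i j
      exact ⟨q, by rw [hq, pow_one]⟩
    | mul_inv_cancel u _ a ha ih =>
      obtain ⟨⟨i, j⟩, rfl⟩ := ih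
      obtain ⟨t, rfl⟩ := ha
      fin_cases t
      · obtain ⟨q, hq⟩ := hclosed X (Or.inl rfl) (n - 1) i j
        refine ⟨q, hq.trans ?_⟩
        rw [show X ^ (n - 1) = X⁻¹ from eq_inv_of_mul_eq_one_left (by
          rw [← pow_succ, Nat.sub_add_cancel hn, hXn])]
        rfl
      · obtain ⟨q, hq⟩ := hclosed Y (Or.inr rfl) (m - 1) i j
        refine ⟨q, hq.trans ?_⟩
        rw [show Y ^ (m - 1) = Y⁻¹ from eq_inv_of_mul_eq_one_left (by
          rw [← pow_succ, Nat.sub_add_cancel hm, hYm])]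
        rfl
  let g : Fin n × Fin m → P := fun q => X ^ (q.1 : ℕ) * Y ^ (q.2 : ℕ)
  have hg : Function.Surjective g := by
    intro a
    obtain ⟨⟨i, j⟩, rfl⟩ := hall a
    refine ⟨(⟨i % n, Nat.mod_lt _ hn⟩, ⟨j % m, Nat.mod_lt _ hm⟩), ?_⟩
    show X ^ (i % n) * Y ^ (j % m) = X ^ i * Y ^ j
    rw [← pow_eq_pow_mod i hXn, ← pow_eq_pow_mod j hYm]
  refine ⟨Finite.of_surjective g hg, ?_⟩
  have h := Nat.card_le_card_of_surjective g hg
  rwa [Nat.card_prod, Nat.card_fin, Nat.card_fin] at h

variable {K : Type*} [Group K] [Finite K]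

/-- The presentation of a Z-group. -/
theorem exists_presentation [IsZGroup K]
    (hpq : ∀ t z : K, (orderOf t).Prime → (orderOf z).Prime → orderOf t ≠ orderOf z →
      t⁻¹ * z * t ∈ zpowers z → Commute t z) :
    ∃ n m r : ℕ, 0 < n ∧ 0 < m ∧ Nat.Coprime (r - 1) m ∧ Nat.Coprime n m ∧ 1 ≤ r ∧
      r ^ (n / ∏ p ∈ n.primeFactors, p) % m = 1 % m ∧
      Nonempty (K ≃* PresentedGroup (zRels n m r)) := by
  set N := commutator K with hNdef
  obtain ⟨H, hH⟩ := exists_right_complement'_of_coprime (IsZGroup.coprime_commutator_index K)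
  haveI : IsCyclic N := IsZGroup.isCyclic_commutator K
  haveI : IsCyclic H := by
    have e : Abelianization K ≃* H := hH.symm.QuotientMulEquiv
    exact isCyclic_of_surjective _ e.surjective
  obtain ⟨y₀, hy₀⟩ := IsCyclic.exists_generator (α := N)
  obtain ⟨x₀, hx₀⟩ := IsCyclic.exists_generator (α := H)
  set y : K := (y₀ : K)
  set x : K := (x₀ : K)
  have hNy : N = zpowers y := by
    refine le_antisymm (fun a ha => ?_) (zpowers_le.mpr y₀.2)
    obtain ⟨i, hi⟩ := hy₀ ⟨a, ha⟩
    exact ⟨i, congrArg Subtype.val hi⟩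
  have hHx : H = zpowers x := by
    refine le_antisymm (fun a ha => ?_) (zpowers_le.mpr x₀.2)
    obtain ⟨i, hi⟩ := hx₀ ⟨a, ha⟩
    exact ⟨i, congrArg Subtype.val hi⟩
  set n := orderOf x with hn
  set m := orderOf y with hm
  have hn0 : 0 < n := orderOf_pos x
  have hm0 : 0 < m := orderOf_pos y
  have hcardH : Nat.card H = n := by rw [hHx, Nat.card_zpowers]
  have hcardN : Nat.card N = m := by rw [hNy, Nat.card_zpowers]
  have hnm : n.Coprime m := by
    have h := IsZGroup.coprime_commutator_index K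
    rw [← hcardH, ← hH.symm.index_eq_card, ← hcardN]
    exact h.symm
  have hcardK : Nat.card K = n * m := by
    rw [← card_mul_index N, hH.symm.index_eq_card, hcardN, hcardH, mul_comm]
  have htop : closure ({x, y} : Set K) = ⊤ := by
    rw [eq_top_iff, ← hH.sup_eq_top, sup_le_iff, ← hNdef, hNy, hHx, zpowers_le, zpowers_le]
    exact ⟨subset_closure (Or.inr rfl), subset_closure (Or.inl rfl)⟩
  -- the exponent
  have hconj : ∀ a : K, a * y * a⁻¹ ∈ zpowers y := fun a =>
    hNy ▸ (commutator_normal ⊤ ⊤).conj_mem y y₀.2 a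
  obtain ⟨k, hk⟩ : ∃ k : ℕ, y ^ k = x⁻¹ * y * x := by
    have hmem : x⁻¹ * y * x ∈ zpowers y := by simpa using hconj x⁻¹
    exact Submonoid.mem_powers_iff _ _ |>.mp (mem_powers_iff_mem_zpowers.mpr hmem)
  set r := k + m with hr
  have hxy : x⁻¹ * y * x = y ^ r := by
    rw [hr, pow_add, hm, pow_orderOf_eq_one, mul_one, hk]
  have hr1 : 1 ≤ r := by omega
  have hcop : Nat.Coprime (r - 1) m := by
    set g := y ^ (r - 1) with hg
    haveI : (zpowers g).Normal := ⟨fun b hb a => by
      obtain ⟨i, rfl⟩ := hb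
      obtain ⟨j, hj⟩ := hconj a
      refine ⟨j * i, ?_⟩
      show g ^ (j * i) = a * g ^ i * a⁻¹
      simp only [hg, ← zpow_natCast y, ← zpow_mul]
      rw [← conj_zpow, ← (show y ^ j = a * y * a⁻¹ from hj), ← zpow_mul]
      congr 1
      ring⟩
    set π := QuotientGroup.mk' (zpowers g)
    have hgone : π y ^ (r - 1) = 1 := by
      rw [← map_pow]
      exact (QuotientGroup.eq_one_iff _).mpr (mem_zpowers g)
    have hcomm : Commute (π x) (π y) := by
      have h := congrArg π hxy
      rw [map_mul, map_mul, map_inv, map_pow, show r = r - 1 + 1 by omega, pow_succ, hgone,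
        one_mul, mul_assoc, inv_mul_eq_iff_eq_mul] at h
      exact h.symm
    have hcl : IsMulCommutative (closure ({π x, π y} : Set (K ⧸ zpowers g))) :=
      isMulCommutative_closure (by
        rintro a (rfl | rfl) b (rfl | rfl)
        exacts [rfl, hcomm.eq, hcomm.eq.symm, rfl])
    have hmem : ∀ a : K, π a ∈ closure ({π x, π y} : Set (K ⧸ zpowers g)) := fun a => by
      have h : π a ∈ (closure ({x, y} : Set K)).map π := mem_map_of_mem π (htop ▸ mem_top a)
      rwa [MonoidHom.map_closure, Set.image_pair] at h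
    have hle : N ≤ zpowers g := by
      rw [hNdef, _root_.commutator_def, commutator_le]
      intro a _ b _
      rw [← QuotientGroup.eq_one_iff]
      show π ⁅a, b⁆ = 1
      rw [map_commutatorElement, commutatorElement_eq_one_iff_commute]
      haveI := hcl
      exact congrArg Subtype.val (mul_comm' (⟨π a, hmem a⟩ : Subgroup.closure _) ⟨π b, hmem b⟩)
    have hd : m ≤ orderOf g := by
      rw [← hcardN, ← Nat.card_zpowers g]
      exact card_le_of_le hle
    rw [hg, orderOf_pow, ← hm] at hd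
    rw [Nat.coprime_comm, Nat.coprime_iff_gcd_eq_one]
    have hgp : 0 < Nat.gcd m (r - 1) := Nat.gcd_pos_of_pos_left _ hm0
    by_contra hne
    have := Nat.div_lt_self hm0 (show 1 < Nat.gcd m (r - 1) by omega)
    omega
  -- the congruence
  have hmod : r ^ (n / ∏ p ∈ n.primeFactors, p) % m = 1 % m := by
    have hiff : ∀ k : ℕ, Commute (x ^ k) y → r ^ k ≡ 1 [MOD m] := by
      intro k hc
      rw [hm, ← pow_eq_pow_iff_modEq, ← conj_pow_eq hxy k, pow_one, mul_assoc, ← hc.eq,
        inv_mul_cancel_left]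
    have hprime : ∀ p ∈ n.primeFactors, r ^ (n / p) ≡ 1 [MOD m] := by
      intro p hp
      have hpp := Nat.prime_of_mem_primeFactors hp
      have hpn := Nat.dvd_of_mem_primeFactors hp
      set t := x ^ (n / p) with ht
      have hto : orderOf t = p := by
        rw [ht, orderOf_pow, ← hn, Nat.gcd_eq_right (Nat.div_dvd_of_dvd hpn),
          Nat.div_div_self hpn hn0.ne']
      refine modEq_one_of_pow_modEq_one (p := p) (Nat.Coprime.coprime_dvd_left hpn hnm) ?_ ?_
      · rw [← pow_mul]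
        refine hiff _ ?_
        rw [pow_mul, ← ht, ← hto, pow_orderOf_eq_one]
        exact Commute.one_left y
      · intro q hq hqm
        set z := y ^ (m / q) with hz
        have hzo : orderOf z = q := by
          rw [hz, orderOf_pow, ← hm, Nat.gcd_eq_right (Nat.div_dvd_of_dvd hqm),
            Nat.div_div_self hqm hm0.ne']
        have htz : t⁻¹ * z * t = z ^ (r ^ (n / p)) := by
          rw [hz, ← inv_conj_pow, conj_pow_eq hxy, ← pow_mul, ← pow_mul, mul_comm]
        have hne : orderOf t ≠ orderOf z := by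
          rw [hto, hzo]
          exact fun e => hpp.ne_one (Nat.eq_one_of_dvd_coprimes hnm hpn (e ▸ hqm))
        have hc := hpq t z (hto ▸ hpp) (hzo ▸ hq) hne
          (by rw [htz]; exact pow_mem (mem_zpowers z) _)
        rw [mul_assoc, ← hc.eq, inv_mul_cancel_left] at htz
        have := htz.symm.trans (pow_one z).symm
        rwa [pow_eq_pow_iff_modEq, hzo] at this
    set d := orderOf (r : ZMod m) with hd
    have hcast : ∀ k : ℕ, ((r : ZMod m) ^ k = 1 ↔ r ^ k ≡ 1 [MOD m]) := fun k => by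
      rw [← ZMod.natCast_eq_natCast_iff, Nat.cast_pow, Nat.cast_one]
    have hdn : d ∣ n := orderOf_dvd_of_pow_eq_one ((hcast n).mpr (hiff n (by
      rw [hn, pow_orderOf_eq_one]; exact Commute.one_left y)))
    have hdall : d ∣ n / ∏ p ∈ n.primeFactors, p := dvd_div_prod_primeFactors hn0 hdn
      fun p hp => orderOf_dvd_of_pow_eq_one ((hcast _).mpr (hprime p hp))
    exact (hcast _).mp (orderOf_dvd_iff_pow_eq_one.mp hdall)
  refine ⟨n, m, r, hn0, hm0, hcop, hnm, hr1, hmod, ?_⟩
  have hrel : ∀ w ∈ zRels n m r, FreeGroup.lift ![x, y] w = 1 := by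
    rintro w (rfl | rfl | rfl)
    · simp [hn, pow_orderOf_eq_one]
    · simp [hm, pow_orderOf_eq_one]
    · simp only [map_mul, map_inv, map_pow, FreeGroup.lift_apply_of, Matrix.cons_val_zero,
        Matrix.cons_val_one, mul_inv_eq_one]
      exact hxy
  let θ := PresentedGroup.toGroup hrel
  have hsurj : Function.Surjective θ := by
    rw [← MonoidHom.range_eq_top, eq_top_iff, ← htop, closure_le]
    rintro a (rfl | rfl)
    · exact ⟨PresentedGroup.of 0, PresentedGroup.toGroup.of hrel⟩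
    · exact ⟨PresentedGroup.of 1, PresentedGroup.toGroup.of hrel⟩
  obtain ⟨hfin, hle⟩ := card_presented_le hn0 hm0 r
  have hcard : Nat.card (PresentedGroup (zRels n m r)) = Nat.card K :=
    le_antisymm (hcardK ▸ hle) (Nat.card_le_card_of_surjective θ hsurj)
  exact ⟨(MulEquiv.ofBijective θ
    ((Nat.bijective_iff_surjective_and_card θ).mpr ⟨hsurj, hcard⟩)).symm⟩

end Cfsg.Agent.Lib.FrobStructure
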